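import Mathlib.RingTheory.HopfAlgebra.Convolution
import Mathlib.RingTheory.HopfAlgebra.Quotient
import Mathlib.RingTheory.Ideal.Cotangent
import Mathlib.Algebra.DualNumber
import Mathlib.RingTheory.TensorProduct.Maps
import Mathlib.LinearAlgebra.TensorProduct.Basis
import Mathlib.RingTheory.TensorProduct.Quotient
import Mathlib.LinearAlgebra.Basis.VectorSpace

/-!
# Translations by points and the cotangent space at the unit of a commutative Hopf algebra
-/

open WithConv TensorProduct

namespace GrothLib.AugId

variable {k A : Type*} [Field k] [CommRing A] [HopfAlgebra k A]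

local notation "εA" => Bialgebra.counitAlgHom k A

theorem conv_one_apply {C : Type*} [CommRing C] [Algebra k C] :
    (1 : WithConv (A →ₐ[k] C)) = toConv ((Algebra.ofId k C).comp εA) := rfl

theorem comp_one {C D : Type*} [CommRing C] [Algebra k C] [CommRing D] [Algebra k D] (φ : C →ₐ[k] D) :
    toConv (φ.comp (1 : WithConv (A →ₐ[k] C)).ofConv) = 1 := by
  apply ofConv_injective
  ext a
  simp

theorem comp_mul {C D : Type*} [CommRing C] [Algebra k C] [CommRing D] [Algebra k D] (φ : C →ₐ[k] D)
    (f g : WithConv (A →ₐ[k] C)) :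
    toConv (φ.comp (f * g).ofConv) = toConv (φ.comp f.ofConv) * toConv (φ.comp g.ofConv) := by
  rw [AlgHom.comp_convMul_distrib]

section Point

variable {K : Type*} [CommRing K] [Algebra k K]

/-- Translation by a point, `a ↦ Σ h(a₁) ⊗ a₂`. -/
noncomputable def trans (h : A →ₐ[k] K) : A →ₐ[k] K ⊗[k] A :=
  (toConv ((Algebra.TensorProduct.includeLeft (S := k)).comp h) *
    toConv (Algebra.TensorProduct.includeRight : A →ₐ[k] K ⊗[k] A)).ofConv

/-- The inverse point. -/
noncomputable def pinv (h : A →ₐ[k] K) : A →ₐ[k] K := h.comp (HopfAlgebra.antipodeAlgHom k A)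

theorem pinv_mul (h : A →ₐ[k] K) : toConv (pinv h) * toConv h = 1 := by
  have := congrArg (fun x : WithConv (A →ₐ[k] A) => toConv (h.comp x.ofConv))
    (AlgHom.antipode_id_cancel (R := k) (A := A))
  simp only [comp_mul, comp_one] at this
  exact this

theorem mul_pinv (h : A →ₐ[k] K) : toConv h * toConv (pinv h) = 1 := by
  have h1 : toConv (AlgHom.id k A) * toConv (HopfAlgebra.antipodeAlgHom k A) = 1 :=
    mul_inv_cancel (toConv (AlgHom.id k A))
  have := congrArg (fun x : WithConv (A →ₐ[k] A) => toConv (h.comp x.ofConv)) h1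
  simp only [comp_mul, comp_one] at this
  exact this

/-- The extension of a translation to `K ⊗ A`. -/
noncomputable def transK (h : A →ₐ[k] K) : K ⊗[k] A →ₐ[k] K ⊗[k] A :=
  Algebra.TensorProduct.lift (Algebra.TensorProduct.includeLeft (S := k)) (trans h) fun _ _ => .all ..

theorem transK_includeRight (h : A →ₐ[k] K) (a : A) :
    transK h (Algebra.TensorProduct.includeRight a) = trans h a := by
  simp [transK, ← Algebra.TensorProduct.one_def]

theorem transK_trans (h : A →ₐ[k] K) :
    (transK (pinv h)).comp (trans h) = Algebra.TensorProduct.includeRight := by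
  apply toConv_injective
  have hu : toConv ((Algebra.TensorProduct.includeLeft (S := k) : K →ₐ[k] K ⊗[k] A).comp h) *
      toConv ((Algebra.TensorProduct.includeLeft (S := k) : K →ₐ[k] K ⊗[k] A).comp (pinv h)) = 1 := by
    rw [← comp_one (Algebra.TensorProduct.includeLeft (S := k) : K →ₐ[k] K ⊗[k] A), ← mul_pinv h,
      comp_mul]
  rw [trans, comp_mul]
  have e1 : (transK (pinv h)).comp ((Algebra.TensorProduct.includeLeft (S := k)).comp h) =
      (Algebra.TensorProduct.includeLeft (S := k)).comp h := by
    ext a; simp [transK]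
  have e2 : (transK (pinv h)).comp (Algebra.TensorProduct.includeRight) = trans (pinv h) := by
    ext a; exact transK_includeRight _ a
  simp only [ofConv_toConv, e1, e2, trans, toConv_ofConv, ← mul_assoc, hu, one_mul]

/-- Evaluation at the point `h`. -/
noncomputable def evK (h : A →ₐ[k] K) : K ⊗[k] A →ₐ[k] K :=
  Algebra.TensorProduct.lift (AlgHom.id k K) h fun _ _ => .all ..

theorem evK_trans_pinv (h : A →ₐ[k] K) :
    (evK h).comp (trans (pinv h)) = (Algebra.ofId k K).comp εA := by
  apply toConv_injective
  rw [trans, comp_mul]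
  have e1 : (evK h).comp ((Algebra.TensorProduct.includeLeft (S := k)).comp (pinv h)) = pinv h := by
    ext a; simp [evK]
  have e2 : (evK h).comp (Algebra.TensorProduct.includeRight) = h := by
    ext a; simp [evK]
  simp only [ofConv_toConv, e1, e2, pinv_mul, conv_one_apply]

/-- The translation by a point of a subgroup preserves its ideal. -/
theorem map_trans_le (I : Ideal A) [I.IsHopfIdeal k] (h : A →ₐ[k] K) (hI : I ≤ RingHom.ker h) :
    I.map (trans h) ≤ I.map (Algebra.TensorProduct.includeRight : A →ₐ[k] K ⊗[k] A) := by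
  let π : A →ₐc[k] A ⧸ I := Bialgebra.Quotient.mkBialgHom I
  let g : A ⧸ I →ₐ[k] K := Ideal.Quotient.liftₐ I h fun a ha => hI ha
  have hg : g.comp (π : A →ₐ[k] A ⧸ I) = h := AlgHom.ext fun a => rfl
  rw [Ideal.map_le_iff_le_comap]
  intro x hx
  rw [Ideal.mem_comap]
  have hker : RingHom.ker (π : A →ₐ[k] A ⧸ I) = I := Ideal.mk_ker
  rw [← hker, ← Algebra.TensorProduct.lTensor_ker (π : A →ₐ[k] A ⧸ I) Ideal.Quotient.mk_surjective,
    RingHom.mem_ker]
  let m := Algebra.TensorProduct.map (AlgHom.id k K) (π : A →ₐ[k] A ⧸ I)
  show m (trans h x) = 0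
  have key : toConv (m.comp (trans h)) = toConv (((toConv
      ((Algebra.TensorProduct.includeLeft (S := k) : K →ₐ[k] K ⊗[k] (A ⧸ I)).comp g) *
      toConv (Algebra.TensorProduct.includeRight : A ⧸ I →ₐ[k] K ⊗[k] (A ⧸ I))).ofConv).comp
        (π : A →ₐ[k] A ⧸ I)) := by
    rw [trans, comp_mul, AlgHom.convMul_comp_bialgHom_distrib, toConv_ofConv]
    congr 2
  have := DFunLike.congr_fun (toConv_injective key) x
  rw [AlgHom.comp_apply, AlgHom.comp_apply] at this
  rw [this, show (π : A →ₐ[k] A ⧸ I) x = 0 from Ideal.Quotient.eq_zero_iff_mem.mpr hx, map_zero]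

end Point

/-- An element killing a translation stable ideal near the unit can be moved near the point. -/
theorem exists_mul_eq_zero {K : Type*} [CommRing K] [Algebra k K] [Nontrivial K]
    (I : Ideal A) (h : A →ₐ[k] K)
    (hst : I.map (trans h) ≤ I.map (Algebra.TensorProduct.includeRight : A →ₐ[k] K ⊗[k] A))
    (f : A) (hf : εA f ≠ 0) (hfI : ∀ x ∈ I, f * x = 0) :
    ∃ g : A, (∀ x ∈ I, g * x = 0) ∧ h g ≠ 0 := by
  classical
  let z := trans (pinv h) f
  have hz : ∀ x ∈ I, z * Algebra.TensorProduct.includeRight x = 0 := by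
    intro x hx
    rw [← transK_trans h, AlgHom.comp_apply]
    have h1 := Ideal.mem_map_of_mem (transK (pinv h)) (hst (Ideal.mem_map_of_mem _ hx))
    refine Submodule.span_induction (p := fun y _ => z * y = 0) ?_ (mul_zero _)
      (fun a b _ _ ha hb => by rw [mul_add, ha, hb, add_zero])
      (fun c y _ hy => by rw [smul_eq_mul, mul_left_comm, hy, mul_zero]) h1
    rintro _ ⟨w, hw, rfl⟩
    rw [SetLike.mem_coe] at hw
    refine Submodule.span_induction (p := fun y _ => z * transK (pinv h) y = 0) ?_
      (by rw [map_zero, mul_zero])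
      (fun a b _ _ ha hb => by rw [map_add, mul_add, ha, hb, add_zero])
      (fun c y _ hy => by rw [smul_eq_mul, map_mul, mul_left_comm, hy, mul_zero]) hw
    rintro _ ⟨y, hy, rfl⟩
    rw [transK_includeRight, ← map_mul, hfI y hy, map_zero]
  let b := Module.Free.chooseBasis k K
  let e := TensorProduct.equivFinsuppOfBasisLeft (N := A) b
  have hc : ∀ (x : A) (y : K ⊗[k] A) i, e (y * Algebra.TensorProduct.includeRight x) i = e y i * x := by
    intro x y i
    induction y using TensorProduct.induction_on with
    | zero => simp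
    | tmul c a => simp [e, smul_mul_assoc]
    | add y₁ y₂ h₁ h₂ =>
      rw [add_mul, map_add, map_add, Finsupp.add_apply, Finsupp.add_apply, add_mul, h₁, h₂]
  by_contra hcon
  push Not at hcon
  have h0 : evK h z = 0 := by
    rw [← e.symm_apply_apply z, TensorProduct.equivFinsuppOfBasisLeft_symm_apply, Finsupp.sum, map_sum]
    refine Finset.sum_eq_zero fun i _ => ?_
    have : h (e z i) = 0 := hcon _ fun x hx => by rw [← hc, hz x hx]; simp
    simp [evK, this]
  rw [show evK h z = ((evK h).comp (trans (pinv h))) f from rfl, evK_trans_pinv] at h0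
  exact hf ((algebraMap k K).injective (h0.trans (map_zero _).symm))

section Deriv

/-- The projection onto the cotangent space at the unit. -/
theorem sub_counit_mem (a : A) : a - algebraMap k A (εA a) ∈ RingHom.ker εA := by
  simp [RingHom.mem_ker]

theorem toCotangent_smul (r : k) (x : RingHom.ker εA) :
    (RingHom.ker εA).toCotangent (r • x) = r • (RingHom.ker εA).toCotangent x := by
  rw [← algebraMap_smul A r x, map_smul, algebraMap_smul]

/-- A linear form on the cotangent space gives a point with values in dual numbers. -/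
noncomputable def tangentPt (f : (RingHom.ker εA).Cotangent →ₗ[k] k) : A →ₐ[k] DualNumber k :=
  AlgHom.ofLinearMap
    { toFun := fun a => TrivSqZeroExt.inl (εA a) + TrivSqZeroExt.inr
        (f ((RingHom.ker εA).toCotangent ⟨a - algebraMap k A (εA a), sub_counit_mem a⟩))
      map_add' := fun a b => by
        have : (⟨a + b - algebraMap k A (εA (a + b)), sub_counit_mem _⟩ : RingHom.ker εA) =
            ⟨a - algebraMap k A (εA a), sub_counit_mem a⟩ + ⟨b - algebraMap k A (εA b), sub_counit_mem b⟩ :=
          Subtype.ext (by simp; ring)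
        rw [this, map_add, map_add]
        ext <;> simp
      map_smul' := fun r a => by
        have : (⟨r • a - algebraMap k A (εA (r • a)), sub_counit_mem _⟩ : RingHom.ker εA) =
            r • (⟨a - algebraMap k A (εA a), sub_counit_mem a⟩ : RingHom.ker εA) :=
          Subtype.ext (by simp [Algebra.smul_def, mul_sub])
        rw [this, toCotangent_smul, map_smul]
        ext <;> simp }
    (by
      have : (⟨(1 : A) - algebraMap k A (εA 1), sub_counit_mem _⟩ : RingHom.ker εA) = 0 :=
        Subtype.ext (by simp)
      simp only [LinearMap.coe_mk, AddHom.coe_mk]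
      rw [this, map_zero, map_zero, map_one]
      ext <;> simp)
    (fun a b => by
      simp only [LinearMap.coe_mk, AddHom.coe_mk]
      let za : RingHom.ker εA := ⟨a - algebraMap k A (εA a), sub_counit_mem a⟩
      let zb : RingHom.ker εA := ⟨b - algebraMap k A (εA b), sub_counit_mem b⟩
      have : (⟨a * b - algebraMap k A (εA (a * b)), sub_counit_mem _⟩ : RingHom.ker εA) =
          εA a • zb + εA b • za + (za : A) • zb :=
        Subtype.ext (by simp [za, zb, Algebra.smul_def]; ring)
      have h2 : (RingHom.ker εA).toCotangent ((za : A) • zb) = 0 := by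
        rw [Ideal.toCotangent_eq_zero, pow_two]
        exact Ideal.mul_mem_mul za.2 zb.2
      rw [this, map_add, map_add, h2, map_add, map_add, toCotangent_smul,
        toCotangent_smul, map_smul, map_smul, map_zero]
      ext <;> simp [za, zb] <;> ring)

theorem fst_tangentPt (f : (RingHom.ker εA).Cotangent →ₗ[k] k) (a : A) :
    (tangentPt f a).fst = εA a := by simp [tangentPt]

theorem snd_tangentPt (f : (RingHom.ker εA).Cotangent →ₗ[k] k) (x : RingHom.ker εA) :
    (tangentPt f x).snd = f ((RingHom.ker εA).toCotangent x) := by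
  have h0 : εA (x : A) = 0 := x.2
  have : (⟨(x : A) - algebraMap k A (εA x), sub_counit_mem _⟩ : RingHom.ker εA) = x :=
    Subtype.ext (by simp [h0])
  simp [tangentPt, this]

/-- The cotangent space at the unit is finite dimensional. -/
theorem finite_cotangent [IsNoetherianRing A] : Module.Finite k (RingHom.ker εA).Cotangent := by
  haveI : Module.Finite A (RingHom.ker εA) := Module.Finite.iff_fg.mpr (IsNoetherian.noetherian _)
  obtain ⟨s, hs⟩ := (Module.Finite.of_surjective (RingHom.ker εA).toCotangent
    (RingHom.ker εA).toCotangent_surjective).fg_top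
  refine ⟨⟨s, eq_top_iff.mpr fun c h => ?_⟩⟩
  clear h
  have hc : c ∈ Submodule.span A (s : Set (RingHom.ker εA).Cotangent) := hs ▸ Submodule.mem_top
  induction hc using Submodule.span_induction with
  | mem x hx => exact Submodule.subset_span hx
  | zero => exact zero_mem _
  | add x y _ _ hx hy => exact add_mem hx hy
  | smul a x _ hx =>
    obtain ⟨x, rfl⟩ := (RingHom.ker εA).toCotangent_surjective x
    have : a • (RingHom.ker εA).toCotangent x = εA a • (RingHom.ker εA).toCotangent x := by
      rw [← map_smul, ← toCotangent_smul, Ideal.toCotangent_eq]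
      rw [SetLike.val_smul, Submodule.coe_smul_of_tower, smul_eq_mul, Algebra.smul_def, ← sub_mul, pow_two]
      exact Ideal.mul_mem_mul (sub_counit_mem a) x.2
    rw [this]
    exact Submodule.smul_mem _ _ hx

end Deriv

end GrothLib.AugId
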