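import Groth.Agent.Lib.AugId.Infinitesimal
import Groth.Prelude.Def_Lie2
import Groth.Prelude.Def_GLin

/-!
# `ε`-derivations as linear forms
-/

universe u

open TensorProduct HopfRep GrothLib.Hopf

namespace GrothLib.AugId

variable {k A : Type u} [Field k] [CommRing A] [HopfAlgebra k A]
  {R : Type u} [AddCommGroup R] [Module k R] [HopfRep.Comod k A R]

theorem exists_lie (δ : Module.Dual k A) (hδ : IsPtDer δ) :
    ∃ ξ : LieHopf.Lie k A, ∀ a, (ξ a : k) = δ a :=
  ⟨Derivation.mk' (show A →ₗ[k] LieHopf.K k A from δ) hδ, fun _ => rfl⟩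

/-- A derivation in `LieHopf.Lie` as a linear form. -/
def lieForm (ξ : LieHopf.Lie k A) : Module.Dual k A := (ξ.toLinearMap.restrictScalars k : A →ₗ[k] k)

theorem isPtDer_lieForm (ξ : LieHopf.Lie k A) : IsPtDer (lieForm ξ) := fun a b => ξ.leibniz a b

theorem rid_lie (ξ : LieHopf.Lie k A) (v : R) :
    TensorProduct.rid k R (LinearMap.lTensor R (ξ.toLinearMap.restrictScalars k)
      (HopfRep.Comod.coact (k := k) (A := A) v)) = Comod.op (lieForm ξ) v := rfl

theorem lie_eq_zero_iff (ξ : LieHopf.Lie k A) (v : R) :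
    LinearMap.lTensor R (ξ.toLinearMap.restrictScalars k) (HopfRep.Comod.coact (k := k) (A := A) v) = 0 ↔
      Comod.op (lieForm ξ) v = 0 := by
  rw [← rid_lie]
  exact ((TensorProduct.rid k R).map_eq_zero_iff).symm

theorem ptDer_one {δ : Module.Dual k A} (hδ : IsPtDer δ) : δ 1 = 0 := by
  have h := hδ 1 1
  simp only [mul_one, map_one, one_mul] at h
  linear_combination -h

theorem op_algebraMap {δ : Module.Dual k A} (hδ : IsPtDer δ) (c : k) :
    Comod.op (k := k) (C := A) (V := A) δ (algebraMap k A c) = 0 := by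
  rw [Algebra.algebraMap_eq_smul_one, map_smul]
  show c • TensorProduct.rid k A (δ.lTensor A (Coalgebra.comul (R := k) (1 : A))) = 0
  rw [Bialgebra.comul_one, Algebra.TensorProduct.one_def, LinearMap.lTensor_tmul, ptDer_one hδ]
  simp

theorem apply_eq_zero_of_forall_dual {V : Submodule k R} {x : R}
    (h : ∀ l : Module.Dual k R, (∀ v ∈ V, l v = 0) → l x = 0) : x ∈ V := by
  rw [← Submodule.Quotient.mk_eq_zero]
  refine (Module.forall_dual_apply_eq_zero_iff k _).mp fun l => ?_
  exact h (l ∘ₗ V.mkQ) fun v hv => by simp [(Submodule.Quotient.mk_eq_zero V).mpr hv]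

theorem rid_rTensor {M N : Type u} [AddCommGroup M] [Module k M] [AddCommGroup N] [Module k N]
    (g : M →ₗ[k] N) (z : M ⊗[k] k) :
    TensorProduct.rid k N (g.rTensor k z) = g (TensorProduct.rid k M z) := by
  induction z using TensorProduct.induction_on with
  | zero => simp
  | tmul x y => simp
  | add x y hx hy => simp only [map_add, hx, hy]

end GrothLib.AugId
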