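import Groth.Agent.Lib.AugId.Basic
import Groth.Agent.Lib.GrpSchField.GrpSmooth
import Groth.Agent.Lib.GrpSchField.Field
import Mathlib.AlgebraicGeometry.Group.Affine
import Mathlib.Algebra.Module.SpanRankOperations
import Mathlib.RingTheory.Localization.AtPrime.Basic

/-!
# Dimension against the tangent space at the unit
-/

universe u

open CategoryTheory AlgebraicGeometry MonObj IsLocalRing

namespace GrothLib.AugId

variable {k A : Type u} [Field k] [CommRing A] [HopfAlgebra k A] [Algebra.FiniteType k A]

local notation "εA" => Bialgebra.counitAlgHom k A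

/-- The cotangent space of the local ring at the unit. -/
theorem finrank_cotangentSpace [IsNoetherianRing A] (J : Ideal A) [J.IsPrime]
    (hJ : J = RingHom.ker εA) (L : Type u) [CommRing L] [Algebra A L] [IsLocalization.AtPrime L J]
    [IsLocalRing L] :
    Module.finrank (ResidueField L) (CotangentSpace L) = Module.finrank k J.Cotangent := by
  letI : Algebra k L := ((algebraMap A L).comp (algebraMap k A)).toAlgebra
  haveI : IsScalarTower k A L := IsScalarTower.of_algebraMap_eq' rfl
  haveI : J.IsMaximal := hJ ▸ RingHom.ker_isMaximal_of_surjective _ fun r => ⟨algebraMap k A r, by simp⟩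
  have hmap : ∀ x ∈ J, algebraMap A L x ∈ maximalIdeal L := fun x hx => by
    rw [← IsLocalization.AtPrime.map_eq_maximalIdeal J L]
    exact Ideal.mem_map_of_mem _ hx
  let g : J.Cotangent →ₗ[k] (maximalIdeal L).Cotangent :=
    Ideal.mapCotangent J (maximalIdeal L) (IsScalarTower.toAlgHom k A L) hmap
  let e := IsLocalization.AtPrime.equivQuotMaximalIdealPow J L 2
  have he : ∀ x : A, e (Ideal.Quotient.mk _ x) = Ideal.Quotient.mk _ (algebraMap A L x) :=
    fun x => IsLocalization.AtPrime.equivQuotMaximalIdealPow_apply_mk J L 2 x
  have hg : Function.Bijective g := by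
    constructor
    · rw [injective_iff_map_eq_zero]
      intro c hc
      obtain ⟨⟨x, hx⟩, rfl⟩ := J.toCotangent_surjective c
      rw [Ideal.mapCotangent_toCotangent, Ideal.toCotangent_eq_zero] at hc
      rw [Ideal.toCotangent_eq_zero, ← Ideal.Quotient.eq_zero_iff_mem]
      apply e.injective
      rw [he, map_zero]
      exact Ideal.Quotient.eq_zero_iff_mem.mpr hc
    · intro c
      obtain ⟨⟨y, hy⟩, rfl⟩ := (maximalIdeal L).toCotangent_surjective c
      obtain ⟨z, hz⟩ := e.surjective (Ideal.Quotient.mk _ y)
      obtain ⟨x, rfl⟩ := Ideal.Quotient.mk_surjective z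
      rw [he] at hz
      have hxy : algebraMap A L x - y ∈ maximalIdeal L ^ 2 := Ideal.Quotient.eq.mp hz
      have hx : x ∈ J := by
        have : algebraMap A L x ∈ maximalIdeal L := by
          have := add_mem (Ideal.pow_le_self two_ne_zero hxy) hy
          rwa [sub_add_cancel] at this
        exact (IsLocalization.AtPrime.to_map_mem_maximal_iff L J x).mp this
      refine ⟨J.toCotangent ⟨x, hx⟩, ?_⟩
      rw [Ideal.mapCotangent_toCotangent, Ideal.toCotangent_eq]
      exact hxy
  have hres : Function.Bijective (algebraMap k (ResidueField L)) := by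
    refine ⟨(algebraMap k (ResidueField L)).injective, fun z => ?_⟩
    obtain ⟨y, rfl⟩ := IsLocalRing.residue_surjective z
    obtain ⟨w, hw⟩ := (IsLocalization.AtPrime.equivQuotMaximalIdealPow J L 1).surjective
      (Ideal.Quotient.mk _ y)
    obtain ⟨x, rfl⟩ := Ideal.Quotient.mk_surjective w
    rw [IsLocalization.AtPrime.equivQuotMaximalIdealPow_apply_mk, Ideal.Quotient.eq, pow_one] at hw
    refine ⟨εA x, ?_⟩
    show residue L (algebraMap A L (algebraMap k A (εA x))) = residue L y
    refine Ideal.Quotient.eq.mpr ?_
    have h2 := hmap _ (hJ.ge (sub_counit_mem (k := k) x))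
    rw [map_sub] at h2
    have := sub_mem hw h2
    rwa [show algebraMap A L x - y - (algebraMap A L x - algebraMap A L (algebraMap k A (εA x))) =
      algebraMap A L (algebraMap k A (εA x)) - y by ring] at this
  have h1 : Module.finrank k (ResidueField L) = 1 := by
    rw [← (AlgEquiv.ofBijective (Algebra.ofId k (ResidueField L)) hres).toLinearEquiv.finrank_eq,
      Module.finrank_self]
  haveI : IsScalarTower k L (maximalIdeal L).Cotangent := IsScalarTower.of_algebraMap_smul fun r c => by
    obtain ⟨y, rfl⟩ := (maximalIdeal L).toCotangent_surjective c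
    rfl
  haveI : IsScalarTower k (ResidueField L) (CotangentSpace L) := IsScalarTower.of_algebraMap_smul fun r c => by
    show algebraMap L (ResidueField L) (algebraMap k L r) • c = r • c
    rw [algebraMap_smul]
    exact algebraMap_smul L r (c : (maximalIdeal L).Cotangent)
  rw [← mul_one (Module.finrank (ResidueField L) (CotangentSpace L)), mul_comm, ← h1,
    Module.finrank_mul_finrank k (ResidueField L) (CotangentSpace L)]
  exact (LinearEquiv.ofBijective g hg).finrank_eq.symm

/-- The dimension is at most that of the tangent space, with equality exactly for smooth groups. -/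
theorem ringKrullDim_le_and_iff :
    ringKrullDim A ≤ (Module.finrank k (RingHom.ker εA).Cotangent : WithBot ℕ∞) ∧
      (ringKrullDim A = (Module.finrank k (RingHom.ker εA).Cotangent : WithBot ℕ∞) ↔
        Algebra.FormallySmooth k A) := by
  haveI : IsNoetherianRing A := Algebra.FiniteType.isNoetherianRing k A
  haveI : IsNoetherianRing (CommRingCat.of A) := ‹_›
  let G : Over (Spec (CommRingCat.of k)) :=
    (Spec (CommRingCat.of A)).asOver (Spec (CommRingCat.of k))
  have hhom : G.hom = Spec.map (CommRingCat.ofHom (algebraMap k A)) := rfl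
  haveI : LocallyOfFiniteType G.hom := by
    show LocallyOfFiniteType (Spec.map (CommRingCat.ofHom (algebraMap k A)))
    rw [HasRingHomProperty.Spec_iff (P := @LocallyOfFiniteType)]
    exact RingHom.finiteType_algebraMap.mpr inferInstance
  have hη : η[G].left (closedPoint k) =
      (⟨RingHom.ker εA, RingHom.ker_isPrime _⟩ : PrimeSpectrum A) := by
    refine PrimeSpectrum.ext ?_
    show (closedPoint k).asIdeal.comap (εA : A →+* k) = RingHom.ker εA
    rw [show (closedPoint k).asIdeal = (⊥ : Ideal k) from IsLocalRing.maximalIdeal_eq_bot]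
    rfl
  have hrank : (maximalIdeal (G.left.presheaf.stalk (η[G].left (closedPoint k)))).spanFinrank =
      Module.finrank k (RingHom.ker εA).Cotangent := by
    haveI : IsLocallyNoetherian G.left := LocallyOfFiniteType.isLocallyNoetherian G.hom
    rw [IsLocalRing.spanFinrank_maximalIdeal_eq_finrank_cotangentSpace]
    let p : PrimeSpectrum A := η[G].left (closedPoint k)
    letI : Algebra A (G.left.presheaf.stalk (η[G].left (closedPoint k))) :=
      (StructureSheaf.stalkAlgebra A p : Algebra A ((Spec.structureSheaf A).presheaf.stalk p))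
    haveI : IsLocalization.AtPrime (G.left.presheaf.stalk (η[G].left (closedPoint k))) p.asIdeal :=
      StructureSheaf.IsLocalization.to_stalk A p
    have hp : p.asIdeal = RingHom.ker εA := congrArg PrimeSpectrum.asIdeal hη
    rw [finrank_cotangentSpace (k := k) p.asIdeal hp, hp]
  have hdim : topologicalKrullDim G.left = ringKrullDim A := PrimeSpectrum.topologicalKrullDim_eq_ringKrullDim A
  have hsm : Smooth G.hom ↔ Algebra.FormallySmooth k A := by
    show Smooth (Spec.map (CommRingCat.ofHom (algebraMap k A))) ↔ _
    rw [HasRingHomProperty.Spec_iff (P := @Smooth)]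
    refine RingHom.smooth_algebraMap.trans ⟨fun h => h.formallySmooth, fun h => ?_⟩
    haveI : Algebra.FinitePresentation k A := Algebra.FinitePresentation.of_finiteType.mp ‹_›
    exact ⟨h, inferInstance⟩
  refine ⟨?_, ?_, ?_⟩
  · have := GrothLib.GrpSchField.topologicalKrullDim_le_spanFinrank G
    rwa [hrank, hdim] at this
  · intro h
    refine hsm.mp (GrothLib.GrpSchField.smooth_of_spanFinrank_le G ?_)
    rw [hrank, hdim, h]
  · intro h
    haveI : Smooth G.hom := hsm.mpr h
    have hcl : IsClosed ({η[G].left (closedPoint k)} : Set G.left) := by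
      rw [hη]
      exact (PrimeSpectrum.isClosed_singleton_iff_isMaximal _).mpr
        (RingHom.ker_isMaximal_of_surjective _ fun r => ⟨algebraMap k A r, by simp⟩)
    have hreg := GrothLib.GrpSchField.isRegularLocalRing_stalk_of_smooth G.hom hcl
    rw [← hdim, ← GrothLib.GrpSchField.ringKrullDim_stalk_eq G hcl, ← hreg.spanFinrank_maximalIdeal, hrank]

end GrothLib.AugId
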