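import Groth.Agent.Lib.AugId.Basic
import Mathlib.RingTheory.MvPolynomial.Homogeneous
import Mathlib.RingTheory.MvPolynomial.EulerIdentity
import Mathlib.Algebra.MvPolynomial.PDeriv
import Mathlib.LinearAlgebra.FiniteDimensional.Lemmas
import Mathlib.Data.Sym.Card

/-!
# The graded pieces of the augmentation filtration in small degree
-/

open WithConv MvPolynomial

namespace GrothLib.AugId

variable {k A : Type*} [Field k] [CommRing A] [HopfAlgebra k A]

local notation "εA" => Bialgebra.counitAlgHom k A

/-- An invariant derivation with given value at the unit. -/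
theorem exists_derivation (f : (RingHom.ker εA).Cotangent →ₗ[k] k) :
    ∃ D : Derivation k A A, ∀ x : RingHom.ker εA, εA (D x) = f ((RingHom.ker εA).toCotangent x) := by
  let t := tangentPt f
  let ι : DualNumber k →ₐ[k] DualNumber A :=
    DualNumber.lift ⟨(Algebra.ofId k (DualNumber A), DualNumber.eps),
      DualNumber.eps_mul_eps, fun _ => mul_comm _ _⟩
  have hι : ∀ y : DualNumber k, TrivSqZeroExt.fst (ι y) = algebraMap k A y.fst ∧
      TrivSqZeroExt.snd (ι y) = algebraMap k A y.snd := fun y => by
    constructor <;> simp [ι, DualNumber.lift_apply_apply, Algebra.ofId_apply, TrivSqZeroExt.algebraMap_eq_inl']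
  let inlA : A →ₐ[k] DualNumber A := TrivSqZeroExt.inlAlgHom k A A
  let φ : A →ₐ[k] DualNumber A := (toConv inlA * toConv (ι.comp t)).ofConv
  have hfst : (TrivSqZeroExt.fstHom k A A).comp φ = AlgHom.id k A := by
    apply toConv_injective
    rw [comp_mul]
    have e1 : (TrivSqZeroExt.fstHom k A A).comp inlA = AlgHom.id k A := AlgHom.ext fun a => rfl
    have e2 : (TrivSqZeroExt.fstHom k A A).comp (ι.comp t) = (Algebra.ofId k A).comp εA :=
      AlgHom.ext fun a => by
        show TrivSqZeroExt.fst (ι (t a)) = algebraMap k A (εA a)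
        rw [(hι _).1, fst_tangentPt]
    simp only [ofConv_toConv, e1, e2, ← conv_one_apply, mul_one]
  let εd : DualNumber A →ₐ[k] DualNumber k :=
    DualNumber.lift ⟨((Algebra.ofId k (DualNumber k)).comp εA, DualNumber.eps),
      DualNumber.eps_mul_eps, fun _ => mul_comm _ _⟩
  have hεd : ∀ y : DualNumber A, TrivSqZeroExt.fst (εd y) = εA y.fst ∧
      TrivSqZeroExt.snd (εd y) = εA y.snd := fun y => by
    constructor <;> simp [εd, DualNumber.lift_apply_apply, Algebra.ofId_apply, TrivSqZeroExt.algebraMap_eq_inl']
  have hev : εd.comp φ = t := by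
    apply toConv_injective
    rw [comp_mul]
    have e1 : εd.comp inlA = (Algebra.ofId k (DualNumber k)).comp εA :=
      AlgHom.ext fun a => by
        simp [εd, inlA, DualNumber.lift_apply_apply, Algebra.ofId_apply]
    have e2 : εd.comp (ι.comp t) = t := AlgHom.ext fun a => by
      ext
      · rw [AlgHom.comp_apply, AlgHom.comp_apply, (hεd _).1, (hι _).1]; simp
      · rw [AlgHom.comp_apply, AlgHom.comp_apply, (hεd _).2, (hι _).2]; simp
    simp only [ofConv_toConv, e1, e2, ← conv_one_apply]
    exact one_mul (toConv t)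
  let D0 : A →ₗ[k] A := ((TrivSqZeroExt.sndHom A A).restrictScalars k).comp φ.toLinearMap
  refine ⟨Derivation.mk' D0 fun a b => ?_, fun x => ?_⟩
  · show TrivSqZeroExt.snd (φ (a * b)) = a * TrivSqZeroExt.snd (φ b) + b * TrivSqZeroExt.snd (φ a)
    have h1 : ∀ c, TrivSqZeroExt.fst (φ c) = c := fun c => DFunLike.congr_fun hfst c
    rw [map_mul, DualNumber.snd_mul, h1, h1]
    ring
  · show εA (TrivSqZeroExt.snd (φ x)) = _
    rw [← (hεd _).2, show εd (φ x) = t x from DFunLike.congr_fun hev (x : A), snd_tangentPt]

/-- Derivations lower the filtration by powers of an ideal by at most one. -/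
theorem derivation_mem_pow (D : Derivation k A A) (I : Ideal A) :
    ∀ (n : ℕ) (a : A), a ∈ I ^ (n + 1) → D a ∈ I ^ n := by
  intro n
  induction n with
  | zero => intro a _; rw [pow_zero, Ideal.one_eq_top]; trivial
  | succ n ih =>
    intro a ha
    rw [pow_succ] at ha
    refine Submodule.mul_induction_on ha (fun b hb c hc => ?_) fun b c hb hc => ?_
    · rw [D.leibniz, smul_eq_mul, smul_eq_mul]
      refine add_mem (Ideal.mul_mem_right _ _ hb) ?_
      rw [pow_succ']
      exact Ideal.mul_mem_mul hc (ih b hb)
    · rw [map_add]; exact add_mem hb hc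

variable {σ : Type*} [Fintype σ] [DecidableEq σ]

/-- The chain rule for a derivation on polynomials in given elements. -/
theorem derivation_aeval (D : Derivation k A A) (x : σ → A) (p : MvPolynomial σ k) :
    D (aeval x p) = ∑ i, aeval x (pderiv i p) * D (x i) := by
  induction p using MvPolynomial.induction_on with
  | C a => simp
  | add p q hp hq => simp [map_add, hp, hq, add_mul, Finset.sum_add_distrib]
  | mul_X p j hp =>
    simp only [map_mul, aeval_X, D.leibniz, smul_eq_mul, hp, Derivation.leibniz, pderiv_X, map_add,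
      add_mul, Finset.sum_add_distrib, Finset.mul_sum]
    have : ∀ i, aeval x (Pi.single (M := fun _ : σ => MvPolynomial σ k) i 1 j) = if i = j then 1 else 0 := fun i => by
      rcases eq_or_ne i j with rfl | h <;> simp [*]
    simp only [this, mul_ite, mul_one, mul_zero, ite_mul, zero_mul, Finset.sum_ite_eq', Finset.mem_univ,
      if_true]
    congr 1
    exact Finset.sum_congr rfl fun i _ => by ring

/-- Homogeneous polynomials of small degree in a dual system are independent modulo higher powers. -/
theorem eq_zero_of_aeval_mem (D : σ → Derivation k A A) (x : σ → A)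
    (hx : ∀ i, x i ∈ RingHom.ker εA) (hD : ∀ i j, εA (D i (x j)) = if i = j then 1 else 0) :
    ∀ (m : ℕ), (m.factorial : k) ≠ 0 → ∀ p : MvPolynomial σ k, p.IsHomogeneous m →
      aeval x p ∈ RingHom.ker εA ^ (m + 1) → p = 0 := by
  intro m
  induction m with
  | zero =>
    intro _ p hp hmem
    rw [(totalDegree_eq_zero_iff_eq_C).mp (Nat.le_zero.mp hp.totalDegree_le)] at hmem ⊢
    rw [pow_one, RingHom.mem_ker, aeval_C, AlgHom.commutes] at hmem
    rw [show coeff 0 p = 0 from hmem, map_zero]
  | succ m ih =>
    intro hfac p hp hmem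
    rw [Nat.factorial_succ, Nat.cast_mul] at hfac
    have hd : ∀ i, pderiv i p = 0 := fun i => by
      refine ih (right_ne_zero_of_mul hfac) _ hp.pderiv ?_
      have h1 := derivation_mem_pow (D i) _ (m + 1) _ hmem
      rw [derivation_aeval] at h1
      have h2 : ∀ j, aeval x (pderiv j p) * D i (x j) -
          (if i = j then aeval x (pderiv j p) else 0) ∈ RingHom.ker εA ^ (m + 1) := fun j => by
        have hj : aeval x (pderiv j p) ∈ RingHom.ker εA ^ m := by
          have hh : (pderiv j p).IsHomogeneous m := hp.pderiv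
          rw [(pderiv j p).as_sum, map_sum]
          refine sum_mem fun d hd => ?_
          rw [aeval_monomial, Finsupp.prod]
          refine Ideal.mul_mem_left _ _ ?_
          have hdeg : d.degree = m := by
            have := hh (mem_support_iff.mp hd)
            rwa [Finsupp.degree_eq_weight_one] 
          rw [← hdeg]
          show ∏ e ∈ d.support, x e ^ d e ∈ RingHom.ker εA ^ (∑ e ∈ d.support, d e)
          rw [← Finset.prod_pow_eq_pow_sum]
          exact Ideal.prod_mem_prod fun e _ => Ideal.pow_mem_pow (hx e) _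
        have e : aeval x (pderiv j p) * D i (x j) - (if i = j then aeval x (pderiv j p) else 0) =
            aeval x (pderiv j p) * (D i (x j) - algebraMap k A (εA (D i (x j)))) := by
          rw [hD, mul_sub]; split_ifs <;> simp
        rw [e, pow_succ]
        exact Ideal.mul_mem_mul hj (sub_counit_mem _)
      have h3 := sub_mem h1 (sum_mem fun j (_ : j ∈ Finset.univ) => h2 j)
      simpa [Finset.sum_sub_distrib] using h3
    have he := hp.sum_X_mul_pderiv
    rw [Finset.sum_eq_zero fun i _ => by rw [hd i, mul_zero]] at he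
    have hne : ((m + 1 : ℕ) : k) ≠ 0 := left_ne_zero_of_mul hfac
    rw [← Nat.cast_smul_eq_nsmul k] at he
    exact (smul_eq_zero.mp he.symm).resolve_left hne

/-- Spaces of forms are finite dimensional. -/
theorem finite_homogeneous (r n : ℕ) : Module.Finite k (homogeneousSubmodule (Fin r) k n) := by
  classical
  let e : {d : Fin r →₀ ℕ | d.degree = n} ≃ Sym (Fin r) n :=
    Equiv.subtypeEquiv Multiset.toFinsupp.symm.toEquiv fun d => by
      show d.degree = n ↔ (Finsupp.toMultiset d).card = n
      rw [Finsupp.card_toMultiset]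
      rfl
  haveI : Fintype {d : Fin r →₀ ℕ | d.degree = n} := Fintype.ofEquiv _ e.symm
  have b : Module.Basis {d : Fin r →₀ ℕ | d.degree = n} k (homogeneousSubmodule (Fin r) k n) :=
    (Finsupp.basisSingleOne).map ((AddMonoidAlgebra.supportedEquivFinsupp (R := k) (S := k) _).symm ≪≫ₗ
      LinearEquiv.ofEq _ _ (homogeneousSubmodule_eq_finsupp_supported (Fin r) k n).symm)
  exact Module.Finite.of_basis b

/-- The dimension of the space of forms. -/
theorem finrank_homogeneous (r n : ℕ) :
    Module.finrank k (homogeneousSubmodule (Fin r) k n) = Nat.choose (r + n - 1) n := by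
  classical
  let e : {d : Fin r →₀ ℕ | d.degree = n} ≃ Sym (Fin r) n :=
    Equiv.subtypeEquiv Multiset.toFinsupp.symm.toEquiv fun d => by
      show d.degree = n ↔ (Finsupp.toMultiset d).card = n
      rw [Finsupp.card_toMultiset]
      rfl
  haveI : Fintype {d : Fin r →₀ ℕ | d.degree = n} := Fintype.ofEquiv _ e.symm
  have b : Module.Basis {d : Fin r →₀ ℕ | d.degree = n} k (homogeneousSubmodule (Fin r) k n) :=
    (Finsupp.basisSingleOne).map ((AddMonoidAlgebra.supportedEquivFinsupp (R := k) (S := k) _).symm ≪≫ₗ
      LinearEquiv.ofEq _ _ (homogeneousSubmodule_eq_finsupp_supported (Fin r) k n).symm)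
  rw [Module.finrank_eq_card_basis b, Fintype.card_congr e, Sym.card_sym_eq_choose, Fintype.card_fin]

end GrothLib.AugId
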