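import Groth.Agent.Lib.AugId.Basic

/-!
# Translations by rational points as automorphisms
-/

open WithConv

namespace GrothLib.AugId

variable {k A : Type*} [Field k] [CommRing A] [HopfAlgebra k A]

local notation "εA" => Bialgebra.counitAlgHom k A

/-- Translation by a rational point. -/
noncomputable def tr (h : A →ₐ[k] k) : A →ₐ[k] A :=
  (toConv ((Algebra.ofId k A).comp h) * toConv (AlgHom.id k A)).ofConv

theorem tr_comp_tr (g h : A →ₐ[k] k) :
    (tr g).comp (tr h) =
      (toConv ((Algebra.ofId k A).comp (toConv h * toConv g).ofConv) * toConv (AlgHom.id k A)).ofConv := by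
  apply toConv_injective
  conv_lhs => rw [tr, tr, comp_mul]
  have e1 : ((toConv ((Algebra.ofId k A).comp g) * toConv (AlgHom.id k A)).ofConv).comp
      ((Algebra.ofId k A).comp h) = (Algebra.ofId k A).comp h :=
    AlgHom.ext fun a => by simp [Algebra.ofId_apply]
  simp only [ofConv_toConv, AlgHom.comp_id, toConv_ofConv, e1, comp_mul, mul_assoc]

theorem tr_pinv_comp (h : A →ₐ[k] k) : (tr (pinv h)).comp (tr h) = AlgHom.id k A := by
  rw [tr_comp_tr, mul_pinv, comp_one, one_mul, ofConv_toConv]

theorem tr_comp_pinv (h : A →ₐ[k] k) : (tr h).comp (tr (pinv h)) = AlgHom.id k A := by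
  rw [tr_comp_tr, pinv_mul, comp_one, one_mul, ofConv_toConv]

/-- Translation by a rational point as an automorphism. -/
noncomputable def trEquiv (h : A →ₐ[k] k) : A ≃ₐ[k] A :=
  AlgEquiv.ofAlgHom (tr h) (tr (pinv h)) (tr_comp_pinv h) (tr_pinv_comp h)

theorem trEquiv_apply (h : A →ₐ[k] k) (a : A) : trEquiv h a = tr h a := rfl

theorem comp_tr (g h : A →ₐ[k] k) : g.comp (tr h) = (toConv h * toConv g).ofConv := by
  apply toConv_injective
  rw [tr, comp_mul, toConv_ofConv]
  have e : g.comp ((Algebra.ofId k A).comp h) = h := AlgHom.ext fun a => by simp [Algebra.ofId_apply]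
  simp only [ofConv_toConv, e, AlgHom.comp_id]

theorem counit_tr (h : A →ₐ[k] k) : (εA).comp (tr h) = h := by
  have hε : toConv εA = (1 : WithConv (A →ₐ[k] k)) := by
    rw [conv_one_apply]; congr 1
  rw [comp_tr, hε, mul_one, ofConv_toConv]

theorem apply_tr_pinv (h : A →ₐ[k] k) (a : A) : h (tr (pinv h) a) = εA a := by
  have := DFunLike.congr_fun (comp_tr h (pinv h)) a
  rw [AlgHom.comp_apply, pinv_mul] at this
  rw [this]
  simp

end GrothLib.AugId
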