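import Groth.Agent.Lib.AugId.Graded
import Groth.Agent.Lib.AugId.Translate
import Groth.Agent.Lib.HopfAG.LeftInvDer
import Groth.Agent.Lib.Comod.Coeff
import Mathlib.RingTheory.Filtration
import Mathlib.RingTheory.Jacobson.Ring
import Mathlib.FieldTheory.IsAlgClosed.Basic

/-!
# Characteristic zero: a connected group is determined by its infinitesimal action
-/

universe u v w w'

open TensorProduct HopfRep GrothLib.Hopf GrothLib.Comodule WithConv MvPolynomial

namespace GrothLib.AugId

variable {k : Type u} [Field k] {A : Type v} [CommRing A] [HopfAlgebra k A]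

local notation "εA" => Bialgebra.counitAlgHom k A

/-- An `ε`-derivation, as a linear form. -/
def IsPtDer (δ : Module.Dual k A) : Prop := ∀ a b : A, δ (a * b) = εA a * δ b + εA b * δ a

theorem op_eq_derOf (δ : Module.Dual k A) (a : A) :
    Comod.op (k := k) (C := A) (V := A) δ a =
      GrothLib.HopfAG.derOf ((Algebra.linearMap k A).comp δ) a := by
  have h : ∀ x : A ⊗[k] A, TensorProduct.rid k A (δ.lTensor A x) =
      ((LinearMap.id (R := k) (M := A)).liftBaseChange A)
        (((Algebra.linearMap k A).comp δ).lTensor A x) := fun x => by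
    induction x using TensorProduct.induction_on with
    | zero => simp
    | tmul b c => simp [Algebra.smul_def, mul_comm]
    | add y z hy hz => simp [hy, hz]
  exact h _

/-- The invariant derivation of an `ε`-derivation. -/
noncomputable def invDer (δ : Module.Dual k A) (hδ : IsPtDer δ) : Derivation k A A :=
  Derivation.mk' (Comod.op (k := k) (C := A) (V := A) δ) fun a b => by
    rw [op_eq_derOf, op_eq_derOf, op_eq_derOf]
    refine GrothLib.HopfAG.derOf_leibniz (δ := (Algebra.linearMap k A).comp δ) (fun x y => ?_) a b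
    simp [hδ x y, Algebra.smul_def]

theorem counit_op (δ : Module.Dual k A) (a : A) :
    εA (Comod.op (k := k) (C := A) (V := A) δ a) = δ a := by
  have h : ∀ x : A ⊗[k] A, εA (TensorProduct.rid k A (δ.lTensor A x)) =
      δ (TensorProduct.lid k A ((Coalgebra.counit (R := k) (A := A)).rTensor A x)) := fun x => by
    induction x using TensorProduct.induction_on with
    | zero => simp
    | tmul b c => simp [mul_comm]
    | add y z hy hz => simp only [map_add, hy, hz]
  show εA (TensorProduct.rid k A (δ.lTensor A (Coalgebra.comul (R := k) a))) = δ a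
  rw [h, Coalgebra.rTensor_counit_comul]
  simp

theorem isPtDer_tangentPt (f : (RingHom.ker εA).Cotangent →ₗ[k] k) :
    IsPtDer ((TrivSqZeroExt.sndHom k k).comp (tangentPt f).toLinearMap) := fun a b => by
  show TrivSqZeroExt.snd (tangentPt f (a * b)) =
    εA a * TrivSqZeroExt.snd (tangentPt f b) + εA b * TrivSqZeroExt.snd (tangentPt f a)
  rw [map_mul, DualNumber.snd_mul, fst_tangentPt, fst_tangentPt]
  ring

theorem ptDer_one' {δ : Module.Dual k A} (hδ : IsPtDer δ) : δ 1 = 0 := by
  have h := hδ 1 1
  simp only [mul_one, map_one, one_mul] at h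
  linear_combination -h

/-- A set of functions vanishing at the unit, stable under invariant derivations, vanishes to every
order at the unit. -/
theorem subset_iInf_pow [CharZero k] [IsNoetherianRing A] (M : Set A) (hJ : M ⊆ RingHom.ker εA)
    (hE : ∀ δ : Module.Dual k A, IsPtDer δ → ∀ a ∈ M, Comod.op (k := k) (C := A) (V := A) δ a ∈ M) :
    M ⊆ (⨅ n : ℕ, RingHom.ker εA ^ n : Ideal A) := by
  classical
  set J : Ideal A := RingHom.ker εA
  haveI : Module.Finite k J.Cotangent := finite_cotangent
  let b := Module.finBasis k J.Cotangent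
  choose y hy using fun i => J.toCotangent_surjective (b i)
  let x : Fin (Module.finrank k J.Cotangent) → A := fun i => (y i : A)
  let δ : Fin (Module.finrank k J.Cotangent) → Module.Dual k A := fun i =>
    (TrivSqZeroExt.sndHom k k).comp (tangentPt (b.coord i)).toLinearMap
  let D := fun i => invDer (δ i) (isPtDer_tangentPt (b.coord i))
  have hD : ∀ i j, εA (D i (x j)) = if i = j then 1 else 0 := fun i j => by
    show εA (Comod.op (k := k) (C := A) (V := A) (δ i) (x j)) = _
    rw [counit_op]
    show TrivSqZeroExt.snd (tangentPt (b.coord i) (y j : A)) = _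
    rw [snd_tangentPt, hy, Module.Basis.coord_apply, b.repr_self, Finsupp.single_apply]
    simp [eq_comm]
  have hlin : ∀ c ∈ J, ∃ q : MvPolynomial (Fin (Module.finrank k J.Cotangent)) k,
      q.IsHomogeneous 1 ∧ c - aeval x q ∈ J ^ 2 := fun c hc => by
    refine ⟨∑ i, C (b.repr (J.toCotangent ⟨c, hc⟩) i) * X i, ?_, ?_⟩
    · refine MvPolynomial.IsHomogeneous.sum _ _ _ fun i _ => ?_
      simpa using (MvPolynomial.isHomogeneous_C _ _).mul (MvPolynomial.isHomogeneous_X k i)
    · rw [map_sum]
      have h1 : J.toCotangent (⟨c, hc⟩ - ∑ i, (b.repr (J.toCotangent ⟨c, hc⟩) i) • y i) = 0 := by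
        rw [map_sub, map_sum]
        conv_lhs => arg 2; arg 2; ext i; rw [toCotangent_smul, hy]
        rw [b.sum_repr, sub_self]
      rw [Ideal.toCotangent_eq_zero] at h1
      simpa [x, Algebra.smul_def] using h1
  have happrox : ∀ m, ∀ a ∈ J ^ m, ∃ p : MvPolynomial (Fin (Module.finrank k J.Cotangent)) k,
      p.IsHomogeneous m ∧ a - aeval x p ∈ J ^ (m + 1) := by
    intro m
    induction m with
    | zero =>
      intro a _
      refine ⟨C (εA a), isHomogeneous_C _ _, ?_⟩
      rw [zero_add, pow_one, aeval_C]
      exact sub_counit_mem a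
    | succ m ih =>
      intro a ha
      rw [pow_succ] at ha
      refine Submodule.mul_induction_on ha (fun u hu v hv => ?_) fun u v hu hv => ?_
      · obtain ⟨p, hp, hp'⟩ := ih u hu
        obtain ⟨q, hq, hq'⟩ := hlin v hv
        refine ⟨p * q, hp.mul hq, ?_⟩
        have hpm : aeval x p ∈ J ^ m := by
          have := sub_mem hu (Ideal.pow_le_pow_right (Nat.le_succ m) hp')
          rwa [sub_sub_cancel] at this
        rw [map_mul, show u * v - aeval x p * aeval x q =
          (u - aeval x p) * v + aeval x p * (v - aeval x q) by ring]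
        refine add_mem ?_ ?_
        · rw [pow_succ]; exact Ideal.mul_mem_mul hp' hv
        · rw [show m + 1 + 1 = m + 2 from rfl, pow_add]; exact Ideal.mul_mem_mul hpm hq'
      · obtain ⟨p, hp, hp'⟩ := hu
        obtain ⟨q, hq, hq'⟩ := hv
        refine ⟨p + q, hp.add hq, ?_⟩
        rw [map_add, add_sub_add_comm]
        exact add_mem hp' hq'
  have hmain : ∀ m, M ⊆ (J ^ (m + 1) : Ideal A) := by
    intro m
    induction m with
    | zero => rw [zero_add, pow_one]; exact hJ
    | succ m ih =>
      intro a ha
      obtain ⟨p, hp, hp'⟩ := happrox (m + 1) a (ih ha)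
      have hd : ∀ i, pderiv i p = 0 := fun i => by
        refine eq_zero_of_aeval_mem D x (fun i => (y i).2) hD m
          (Nat.cast_ne_zero.mpr (Nat.factorial_ne_zero m)) _ hp.pderiv ?_
        have h1 := derivation_mem_pow (D i) J (m + 1) _ hp'
        rw [map_sub] at h1
        have h0 := sub_mem (ih (hE _ (isPtDer_tangentPt (b.coord i)) a ha) : D i a ∈ J ^ (m + 1)) h1
        rw [sub_sub_cancel, derivation_aeval] at h0
        have h2 : ∀ j, aeval x (pderiv j p) * D i (x j) -
            (if i = j then aeval x (pderiv j p) else 0) ∈ J ^ (m + 1) := fun j => by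
          have hj : aeval x (pderiv j p) ∈ J ^ m := by
            have hh : (pderiv j p).IsHomogeneous m := hp.pderiv
            rw [(pderiv j p).as_sum, map_sum]
            refine sum_mem fun d hd => ?_
            rw [aeval_monomial, Finsupp.prod]
            refine Ideal.mul_mem_left _ _ ?_
            have hdeg : d.degree = m := by
              have := hh (mem_support_iff.mp hd)
              rwa [Finsupp.degree_eq_weight_one]
            rw [← hdeg]
            show ∏ e ∈ d.support, x e ^ d e ∈ J ^ (∑ e ∈ d.support, d e)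
            rw [← Finset.prod_pow_eq_pow_sum]
            exact Ideal.prod_mem_prod fun e _ => Ideal.pow_mem_pow (y e).2 _
          have e : aeval x (pderiv j p) * D i (x j) - (if i = j then aeval x (pderiv j p) else 0) =
              aeval x (pderiv j p) * (D i (x j) - algebraMap k A (εA (D i (x j)))) := by
            rw [hD, mul_sub]; split_ifs <;> simp
          rw [e, pow_succ]
          exact Ideal.mul_mem_mul hj (sub_counit_mem _)
        have h3 := sub_mem h0 (sum_mem fun j (_ : j ∈ Finset.univ) => h2 j)
        simpa [Finset.sum_sub_distrib] using h3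
      have he := hp.sum_X_mul_pderiv
      rw [Finset.sum_eq_zero fun i _ => by rw [hd i, mul_zero], ← Nat.cast_smul_eq_nsmul k] at he
      have hp0 : p = 0 := (smul_eq_zero.mp he.symm).resolve_left (Nat.cast_ne_zero.mpr m.succ_ne_zero)
      rwa [hp0, map_zero, sub_zero] at hp'
  intro a ha
  refine Ideal.mem_iInf.mpr fun n => ?_
  exact Ideal.pow_le_pow_right (Nat.le_succ n) (hmain n ha)

/-- A set of functions vanishing at the unit, stable under invariant derivations and under translations
by the points of its zero set, is zero on a connected group in characteristic zero. -/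
theorem eq_zero_of_forall_op_mem [CharZero k] [IsAlgClosed k] [Algebra.FiniteType k A]
    (hconn : ∀ e : A, IsIdempotentElem e → e = 0 ∨ e = 1) (M : Set A) (hJ : M ⊆ RingHom.ker εA)
    (hE : ∀ δ : Module.Dual k A, IsPtDer δ → ∀ a ∈ M, Comod.op (k := k) (C := A) (V := A) δ a ∈ M)
    (hT : ∀ h : A →ₐ[k] k, (∀ a ∈ M, h a = 0) → ∀ a ∈ M, tr h a ∈ M) : ∀ a ∈ M, a = 0 := by
  classical
  haveI : IsNoetherianRing A := Algebra.FiniteType.isNoetherianRing k A
  haveI : IsJacobsonRing A := isJacobsonRing_of_finiteType (A := k)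
  let I : Ideal A := Ideal.span M
  have hIinf : I ≤ ⨅ n : ℕ, RingHom.ker εA ^ n := Ideal.span_le.mpr (subset_iInf_pow M hJ hE)
  have hIJ : I ≤ RingHom.ker εA := Ideal.span_le.mpr hJ
  have hI2 : ∀ x ∈ I, x ∈ (⨅ n : ℕ, RingHom.ker εA ^ n • (⊤ : Submodule A A)) := fun x hx => by
    have := hIinf hx
    simpa [Submodule.mem_iInf, Ideal.mem_iInf, smul_eq_mul, Ideal.mul_top] using this
  obtain ⟨f, hf, hfI⟩ : ∃ f : A, εA f ≠ 0 ∧ ∀ x ∈ I, f * x = 0 := by
    obtain ⟨r, hr, hr'⟩ := Submodule.exists_sub_one_mem_and_smul_eq_zero_of_fg_of_le_smul (RingHom.ker εA) I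
      (IsNoetherian.noetherian I) (fun x hx => by
        obtain ⟨c, hc⟩ := (Ideal.mem_iInf_smul_pow_eq_bot_iff _ x).mp (hI2 x hx)
        rw [← hc]
        exact Submodule.smul_mem_smul c.2 hx)
    refine ⟨r, fun h => ?_, fun x hx => hr' x hx⟩
    rw [RingHom.mem_ker, map_sub, h, map_one, zero_sub, neg_eq_zero] at hr
    exact one_ne_zero hr
  let 𝔞 : Ideal A := Module.annihilator A I
  have htop : 𝔞 ⊔ I = ⊤ := by
    by_contra hne
    obtain ⟨m, hm, hle⟩ := Ideal.exists_le_maximal _ hne
    letI := Ideal.Quotient.field m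
    haveI : Module.Finite k (A ⧸ m) := finite_of_finite_type_of_isJacobsonRing k (A ⧸ m)
    let e : k ≃ₐ[k] A ⧸ m := AlgEquiv.ofBijective (Algebra.ofId k (A ⧸ m))
      (IsAlgClosed.algebraMap_bijective_of_isIntegral (k := k) (K := A ⧸ m))
    let h : A →ₐ[k] k := e.symm.toAlgHom.comp (Ideal.Quotient.mkₐ k m)
    have hker : ∀ a, h a = 0 ↔ a ∈ m := fun a => by
      show e.symm (Ideal.Quotient.mk m a) = 0 ↔ _
      rw [map_eq_zero_iff _ e.symm.injective, Ideal.Quotient.eq_zero_iff_mem]
    let σ := trEquiv h
    have hstab : ∀ x ∈ I, σ x ∈ I := fun x hx => by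
      induction hx using Submodule.span_induction with
      | mem y hy =>
        exact Ideal.subset_span (hT h (fun z hz => (hker z).mpr (hle (Ideal.mem_sup_right (Ideal.subset_span hz)))) y hy)
      | zero => rw [map_zero]; exact zero_mem _
      | add y z _ _ h1 h2 => rw [map_add]; exact add_mem h1 h2
      | smul c y _ h1 => rw [smul_eq_mul, map_mul]; exact Ideal.mul_mem_left _ _ h1
    have hg : tr (pinv h) f ∈ 𝔞 := Module.mem_annihilator.mpr fun ⟨x, hx⟩ => Subtype.ext <| by
      show tr (pinv h) f * x = 0
      have h1 : σ (tr (pinv h) f) = f := by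
        rw [trEquiv_apply]
        exact DFunLike.congr_fun (tr_comp_pinv h) f
      apply σ.injective
      rw [map_mul, h1, map_zero]
      exact hfI _ (hstab x hx)
    have := (hker _).mpr (hle (Ideal.mem_sup_left hg))
    rw [apply_tr_pinv] at this
    exact hf this
  obtain ⟨g, hg, e, he, hge⟩ := Submodule.mem_sup.mp (htop ▸ Submodule.mem_top : (1 : A) ∈ 𝔞 ⊔ I)
  have hfix : ∀ x ∈ I, e * x = x := fun x hx => by
    have h1 : g * x = 0 := congrArg Subtype.val (Module.mem_annihilator.mp hg ⟨x, hx⟩)
    calc e * x = (g + e) * x := by rw [add_mul, h1, zero_add]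
      _ = x := by rw [hge, one_mul]
  intro a ha
  rcases hconn e (hfix e he) with h | h
  · rw [← hfix a (Ideal.subset_span ha), h, zero_mul]
  · have h1 : εA (1 : A) = 0 := hIJ (h ▸ he)
    rw [map_one] at h1
    exact absurd h1 one_ne_zero

variable {V : Type w} [AddCommGroup V] [Module k V] [HopfRep.Comod k A V]

theorem cfMap_op (φ : Module.Dual k V) (δ : Module.Dual k A) (v : V) :
    Comod.op (k := k) (C := A) (V := A) δ (cfMap (C := A) φ v) = cfMap (C := A) φ (Comod.op δ v) :=
  ((isComodHom_iff_op.mp (isComodHom_cfMap φ)) δ v).symm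

theorem apply_cfMap (φ : Module.Dual k V) (δ : Module.Dual k A) (v : V) :
    δ (cfMap (C := A) φ v) = φ (Comod.op δ v) := by
  rw [← counit_op, cfMap_op]
  exact counit_cfMap φ _

theorem tr_cfMap (h : A →ₐ[k] k) (φ : Module.Dual k V) (v : V) :
    tr h (cfMap (C := A) φ v) = cfMap (C := A) (φ ∘ₗ HopfRep.Comod.act k A V h) v := by
  rw [← sub_eq_zero, ← Module.forall_dual_apply_eq_zero_iff k]
  intro f
  rw [map_sub, sub_eq_zero, apply_cfMap]
  have h1 : ∀ a, f (tr h a) = h (Comod.op (k := k) (C := A) (V := A) f a) := fun a => by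
    have : ∀ z : A ⊗[k] A, f (Algebra.TensorProduct.lmul' k
        (Algebra.TensorProduct.map ((Algebra.ofId k A).comp h) (AlgHom.id k A) z)) =
        h (TensorProduct.rid k A (f.lTensor A z)) := fun z => by
      induction z using TensorProduct.induction_on with
      | zero => simp
      | tmul p q =>
        simp only [Algebra.TensorProduct.map_tmul, Algebra.TensorProduct.lmul'_apply_tmul, AlgHom.comp_apply,
          Algebra.ofId_apply, AlgHom.id_apply, ← Algebra.smul_def, LinearMap.lTensor_tmul, TensorProduct.rid_tmul,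
          map_smul, smul_eq_mul]
        ring
      | add y z hy hz => simp [hy, hz]
    exact this _
  rw [h1, cfMap_op]
  exact apply_cfMap φ h.toLinearMap _

end GrothLib.AugId
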